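import Mathlib
import Groth.Prelude.Def_W4sga3iivvp2RelPsh

/-! The topology generated by two precoverages; relative presheaves. -/

set_option autoImplicit false

open CategoryTheory Opposite

namespace GenTopo

universe w v₁ u₁

variable {C : Type u₁} [Category.{v₁} C] {C' : C → Prop} {P P' : Precoverage C}

theorem compose [P.IsStableUnderComposition] {X : C} {R : Presieve X} (hR : R ∈ P X)
    (G : ∀ ⦃Y : C⦄ ⦃f : Y ⟶ X⦄, R f → Presieve Y) (hG : ∀ ⦃Y : C⦄ ⦃f : Y ⟶ X⦄ (hf : R f), G hf ∈ P Y) :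
    ∃ R'' ∈ P X, ∀ ⦃Z : C⦄ ⦃q : Z ⟶ X⦄, R'' q →
      ∃ (Y : C) (f : Y ⟶ X) (hf : R f) (g : Z ⟶ Y), G hf g ∧ g ≫ f = q := by
  obtain ⟨E, rfl⟩ := Precoverage.mem_iff_exists_zeroHypercover.1 hR
  choose F hF using fun i => Precoverage.mem_iff_exists_zeroHypercover.1 (hG (Presieve.ofArrows.mk (f := E.f) i))
  refine ⟨(E.bind F).presieve₀, (E.bind F).mem₀, ?_⟩
  rintro Z q ⟨⟨i, j⟩⟩
  exact ⟨_, E.f i, ⟨i⟩, (F i).f j, by rw [hF i]; exact ⟨j⟩, rfl⟩

variable [P.HasPullbacks] [P.IsStableUnderBaseChange] [P.IsStableUnderComposition]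

/-- Contains a `P`-then-`P'` composite. -/
def Comp (C' : C → Prop) (P P' : Precoverage C) {X : C} (S' : Sieve X) : Prop :=
  ∃ (R : Presieve X) (_ : R ∈ P X) (_ : ∀ ⦃Y : C⦄ ⦃f : Y ⟶ X⦄, R f → C' Y)
    (R' : ∀ ⦃Y : C⦄ ⦃f : Y ⟶ X⦄, R f → Presieve Y),
    (∀ ⦃Y : C⦄ ⦃f : Y ⟶ X⦄ (hf : R f), R' hf ∈ P' Y) ∧
    ∀ ⦃Y : C⦄ ⦃f : Y ⟶ X⦄ (hf : R f) ⦃Z : C⦄ ⦃g : Z ⟶ Y⦄, R' hf g → S' (g ≫ f)

variable (hP'C : ∀ ⦃X : C⦄ ⦃R : Presieve X⦄, R ∈ P' X → C' X ∧ ∀ ⦃Y : C⦄ ⦃f : Y ⟶ X⦄, R f → C' Y)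
  (hP'id : ∀ ⦃X : C⦄, C' X → Presieve.singleton (𝟙 X) ∈ P' X)
  (ha : ∀ ⦃X : C⦄ ⦃R : Presieve X⦄, R ∈ P' X → ∀ ⦃T : C⦄ (g : T ⟶ X), C' T →
      ∃ _ : R.HasPullbacks g, Presieve.pullbackArrows g R ∈ P' T)
  (hb : ∀ X : C, ∃ R ∈ P X, ∀ ⦃Y : C⦄ ⦃f : Y ⟶ X⦄, R f → C' Y)
  (hc : ∀ ⦃S : C⦄ ⦃R₁ : Presieve S⦄, R₁ ∈ P' S →
      ∀ (R₂ : ∀ ⦃Y : C⦄ ⦃f : Y ⟶ S⦄, R₁ f → Presieve Y),
        (∀ ⦃Y : C⦄ ⦃f : Y ⟶ S⦄ (hf : R₁ f), R₂ hf ∈ P Y ∧ ∀ ⦃Z : C⦄ ⦃g : Z ⟶ Y⦄, R₂ hf g → C' Z) →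
      ∀ (R₃ : ∀ ⦃Y : C⦄ ⦃f : Y ⟶ S⦄ (hf : R₁ f) ⦃Z : C⦄ ⦃g : Z ⟶ Y⦄, R₂ hf g → Presieve Z),
        (∀ ⦃Y : C⦄ ⦃f : Y ⟶ S⦄ (hf : R₁ f) ⦃Z : C⦄ ⦃g : Z ⟶ Y⦄ (hg : R₂ hf g), R₃ hf hg ∈ P' Z) →
      ∃ T ∈ P' S, ∀ ⦃W : C⦄ ⦃q : W ⟶ S⦄, T q →
        ∃ (Y Z V : C) (f : Y ⟶ S) (hf : R₁ f) (g : Z ⟶ Y) (hg : R₂ hf g) (h : V ⟶ Z) (_ : R₃ hf hg h)
          (r : W ⟶ V), r ≫ h ≫ g ≫ f = q)

theorem pullback_mem {X : C} {R : Presieve X} (hR : R ∈ P X) {T : C} (f : T ⟶ X) :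
    ∃ G ∈ P T, Sieve.generate G = (Sieve.generate R).pullback f := by
  have : R.HasPullbacks f := P.hasPullbacks_of_mem f hR
  exact ⟨R.pullbackArrows f, Precoverage.pullbackArrows_mem f hR, Sieve.pullbackArrows_comm f R⟩

include hP'C hP'id ha hb hc in
theorem mem_iff (X : C) (S' : Sieve X) :
    S' ∈ (P ⊔ P').toGrothendieck X ↔ Comp C' P P' S' := by
  constructor
  · intro h
    induction h with
    | of X R hR =>
      rcases hR with hR | hR
      · choose G hG hGC using fun Y : C => hb Y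
        obtain ⟨R'', hR'', hq⟩ := compose hR (fun Y _ _ => G Y) (fun Y _ _ => hG Y)
        have hC : ∀ ⦃Y : C⦄ ⦃f : Y ⟶ X⦄, R'' f → C' Y := fun Z q hqq => by
          obtain ⟨Y, f, hf, g, hg, -⟩ := hq hqq
          exact hGC Y hg
        refine ⟨R'', hR'', hC, fun Z _ _ => Presieve.singleton (𝟙 Z), fun Z q hqq => hP'id (hC hqq), ?_⟩
        rintro Z q hqq W g ⟨⟩
        obtain ⟨Y, f, hf, g, -, rfl⟩ := hq hqq
        exact ⟨Y, 𝟙 _ ≫ g, f, hf, by simp⟩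
      · obtain ⟨G, hG, hGC⟩ := hb X
        choose hpb hmem using fun (Y : C) (f : Y ⟶ X) (hf : G f) => ha hR f (hGC hf)
        refine ⟨G, hG, hGC, fun Y f hf => @Presieve.pullbackArrows _ _ _ _ f R (hpb Y f hf),
          fun Y f hf => hmem Y f hf, ?_⟩
        intro Y f hf Z g hg
        have := hpb Y f hf
        have h := Sieve.le_generate (Presieve.pullbackArrows f R) _ _ hg
        rw [Sieve.pullbackArrows_comm] at h
        exact h
    | top X =>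
      obtain ⟨G, hG, hGC⟩ := hb X
      exact ⟨G, hG, hGC, fun Y _ _ => Presieve.singleton (𝟙 Y), fun Y f hf => hP'id (hGC hf),
        fun _ _ _ _ _ _ => trivial⟩
    | pullback X S _ T f ih =>
      obtain ⟨R, hR, hRC, R', hR', hsub⟩ := ih
      obtain ⟨G, hG, hGe⟩ := pullback_mem hR f
      choose H hH hHC using fun Y : C => hb Y
      obtain ⟨R'', hR'', hq⟩ := compose hG (fun Y _ _ => H Y) (fun Y _ _ => hH Y)
      have hC : ∀ ⦃Z : C⦄ ⦃q : Z ⟶ T⦄, R'' q → C' Z := fun Z q hqq => by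
        obtain ⟨Y, f, hf, g, hg, -⟩ := hq hqq
        exact hHC Y hg
      have hfac : ∀ ⦃Z : C⦄ ⦃q : Z ⟶ T⦄, R'' q →
          ∃ (Y : C) (k : Z ⟶ Y) (r : Y ⟶ X) (_ : R r), k ≫ r = q ≫ f := fun Z q hqq => by
        obtain ⟨Y, g, hg, k, -, rfl⟩ := hq hqq
        have h := Sieve.le_generate G _ _ hg
        rw [hGe] at h
        obtain ⟨W, a, r, hr, he⟩ := h
        exact ⟨W, k ≫ a, r, hr, by rw [Category.assoc, he, Category.assoc]⟩
      choose Y k r hr he using hfac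
      choose hpb hmem using fun (Z : C) (q : Z ⟶ T) (hqq : R'' q) =>
        ha (hR' (hr hqq)) (k hqq) (hC hqq)
      refine ⟨R'', hR'', hC, fun Z q hqq =>
          @Presieve.pullbackArrows _ _ _ _ (k hqq) (R' (hr hqq)) (hpb Z q hqq),
        fun Z q hqq => hmem Z q hqq, ?_⟩
      intro Z q hqq W g hg
      have := hpb Z q hqq
      have h := Sieve.le_generate (Presieve.pullbackArrows (k hqq) (R' (hr hqq))) _ _ hg
      rw [Sieve.pullbackArrows_comm] at h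
      obtain ⟨V, a, b, hbm, hab⟩ := h
      show S ((g ≫ q) ≫ f)
      rw [Category.assoc, ← he hqq, ← Category.assoc, ← hab, Category.assoc]
      exact S.downward_closed (hsub (hr hqq) hbm) a
    | transitive X S T _ _ ih1 ih2 =>
      obtain ⟨R, hR, hRC, R', hR', hsub⟩ := ih1
      choose R2 hR2 hR2C R3 hR3 hsub3 using
        fun (Y : C) (f : Y ⟶ X) (hf : R f) (Z : C) (g : Z ⟶ Y) (hg : R' hf g) => ih2 (hsub hf hg)
      choose T' hT' hfac using fun (Y : C) (f : Y ⟶ X) (hf : R f) =>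
        hc (hR' hf) (fun Z g hg => R2 Y f hf Z g hg)
          (fun Z g hg => ⟨hR2 Y f hf Z g hg, hR2C Y f hf Z g hg⟩)
          (fun Z g hg W h hh => R3 Y f hf Z g hg hh) (fun Z g hg W h hh => hR3 Y f hf Z g hg hh)
      refine ⟨R, hR, hRC, fun Y f hf => T' Y f hf, fun Y f hf => hT' Y f hf, ?_⟩
      intro Y f hf W q hq
      obtain ⟨Z, Z', V, g, hg, g', hg', h, hh, r, rfl⟩ := hfac Y f hf hq
      have := hsub3 Y f hf Z g hg hg' hh
      simp only [Sieve.pullback_apply, Category.assoc] at this ⊢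
      exact T.downward_closed this r
  · rintro ⟨R, hR, -, R', hR', hsub⟩
    refine ((P ⊔ P').toGrothendieck).transitive
      (Precoverage.generate_mem_toGrothendieck (Or.inl hR)) _ ?_
    rintro Y _ ⟨Z, a, f, hf, rfl⟩
    rw [Sieve.pullback_comp]
    apply GrothendieckTopology.pullback_stable
    refine GrothendieckTopology.superset_covering _ ?_
      (Precoverage.generate_mem_toGrothendieck (J := P ⊔ P') (Or.inr (hR' hf)))
    rw [Sieve.generate_le_iff]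
    exact fun W g hg => hsub hf hg

theorem family_map {F : Cᵒᵖ ⥤ Type w} {A B D : C} (a : A ⟶ B) (b : B ⟶ D) (x : F.obj (op D)) :
    F.map a.op (F.map b.op x) = F.map (a ≫ b).op x := by simp

include hP'C hP'id ha hb in
theorem isSheaf_iff (F : Cᵒᵖ ⥤ Type w) :
    Presieve.IsSheaf (P ⊔ P').toGrothendieck F ↔
      (∀ ⦃X : C⦄ ⦃R : Presieve X⦄, R ∈ P X → Presieve.IsSheafFor F R) ∧
      (∀ ⦃X : C⦄ ⦃R : Presieve X⦄, R ∈ P' X → Presieve.IsSheafFor F R) := by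
  refine ⟨fun h => ⟨fun X R hR => h.isSheafFor_of_mem_precoverage (J := P ⊔ P') (Or.inl hR),
    fun X R hR => h.isSheafFor_of_mem_precoverage (J := P ⊔ P') (Or.inr hR)⟩, fun ⟨hP, hP'⟩ => ?_⟩
  rw [Precoverage.isSheaf_toGrothendieck_iff]
  intro X T f R hR
  rcases hR with hR | hR
  · obtain ⟨G, hG, hGe⟩ := pullback_mem hR f
    rw [← hGe, ← Presieve.isSheafFor_iff_generate]
    exact hP hG
  set S := (Sieve.generate R).pullback f
  have hS : ∀ ⦃W : C⦄ (k : W ⟶ T), C' W → Presieve.IsSheafFor F (S.pullback k).arrows := by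
    intro W k hW
    obtain ⟨_, hm⟩ := ha hR (k ≫ f) hW
    rw [← Sieve.pullback_comp, ← Sieve.pullbackArrows_comm, ← Presieve.isSheafFor_iff_generate]
    exact hP' hm
  obtain ⟨G, hG, hGC⟩ := hb T
  refine (Presieve.isSeparatedFor_and_exists_isAmalgamation_iff_isSheafFor).1 ⟨?_, fun x hx => ?_⟩
  · intro x t₁ t₂ h₁ h₂
    refine (hP hG).isSeparatedFor.ext fun Y g hg => ?_
    refine (hS g (hGC hg)).isSeparatedFor.ext fun Z h hh => ?_
    rw [family_map, family_map]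
    exact (h₁ _ hh).trans (h₂ _ hh).symm
  · have ex : ∀ ⦃W : C⦄ (k : W ⟶ T), C' W → ∃! t, ∀ ⦃Z : C⦄ (h : Z ⟶ W) (hh : S (h ≫ k)),
        F.map h.op t = x (h ≫ k) hh := fun W k hW => by
      have hy : Presieve.FamilyOfElements.Compatible
          (fun Z (h : Z ⟶ W) (hh : (S.pullback k).arrows h) => x (h ≫ k) hh) :=
        fun Y₁ Y₂ Z g₁ g₂ f₁ f₂ h₁ h₂ he => hx g₁ g₂ h₁ h₂ (by rw [reassoc_of% he])
      exact hS k hW _ hy
    choose t ht using fun (Y : C) (g : Y ⟶ T) (hg : G g) => ex g (hGC hg)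
    have hcompat : Presieve.FamilyOfElements.Compatible (fun Y g hg => t Y g hg : Presieve.FamilyOfElements F G) := by
      intro Y₁ Y₂ Z a₁ a₂ g₁ g₂ h₁ h₂ he
      obtain ⟨H, hH, hHC⟩ := hb Z
      refine (hP hH).isSeparatedFor.ext fun W w hw => ?_
      rw [family_map, family_map]
      refine (hS ((w ≫ a₁) ≫ g₁) (hHC hw)).isSeparatedFor.ext fun V u hu => ?_
      have hu1 : S ((u ≫ w ≫ a₁) ≫ g₁) := by simpa using hu
      have hu2 : S ((u ≫ w ≫ a₂) ≫ g₂) := by simpa [he] using hu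
      rw [family_map, family_map, (ht Y₁ g₁ h₁).1 _ hu1, (ht Y₂ g₂ h₂).1 _ hu2]
      congr 1
      simp [he]
    obtain ⟨t₀, ht₀, -⟩ := hP hG _ hcompat
    refine ⟨t₀, fun Z s hs => ?_⟩
    obtain ⟨G', hG', hGe⟩ := pullback_mem hG s
    refine (hP hG').isSeparatedFor.ext fun W w hw => ?_
    have h := Sieve.le_generate G' _ _ hw
    rw [hGe] at h
    obtain ⟨Y, k, g, hg, he⟩ := h
    have hk : S (k ≫ g) := by rw [he]; exact S.downward_closed hs w
    rw [family_map, ← he, ← family_map k g, ht₀ g hg, (ht Y g hg).1 _ hk]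
    rw [← hx (𝟙 W) w hk hs (by simp [he])]
    simp

omit [P.HasPullbacks] [P.IsStableUnderBaseChange] [P.IsStableUnderComposition] in
theorem relPsh_iff {C : Type u₁} [Category.{v₁} C] (J : GrothendieckTopology C)
    {S : C} (hS : Presieve.IsSheaf J (yoneda.obj S)) {F : Cᵒᵖ ⥤ Type v₁} (φ : F ⟶ yoneda.obj S) :
    (Presieve.IsSeparated (J.over S) (ShfCat.relPsh φ) ↔ Presieve.IsSeparated J F) ∧
    (Presieve.IsSheaf (J.over S) (ShfCat.relPsh φ) ↔ Presieve.IsSheaf J F) := by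
  have hmem : ∀ (T : Over S) (R : Sieve T.left), R ∈ J T.left →
      (Sieve.overEquiv T).symm R ∈ (J.over S) T := fun T R hR => by
    rw [GrothendieckTopology.mem_over_iff, OrderIso.apply_symm_apply]; exact hR
  have hnat : ∀ {A B : C} (g : A ⟶ B) (y : F.obj (op B)),
      φ.app (op A) (F.map g.op y) = g ≫ φ.app (op B) y := fun g y => NatTrans.naturality_apply φ g.op y
  have sep1 : Presieve.IsSeparated J F → Presieve.IsSeparated (J.over S) (ShfCat.relPsh φ) := by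
    intro h T R hR
    intro x t₁ t₂ h₁ h₂
    apply Subtype.ext
    refine (h _ ((GrothendieckTopology.mem_over_iff ..).1 hR)).ext fun A g hg => ?_
    obtain ⟨W, a, b, hab, rfl⟩ := hg
    have e := congrArg Subtype.val ((h₁ a hab).trans (h₂ a hab).symm)
    rw [ShfCat.relPsh_map_val, ShfCat.relPsh_map_val] at e
    exact ((family_map b a.left t₁.1).symm.trans (congrArg (F.map b.op) e)).trans (family_map b a.left t₂.1)
  have sep2 : Presieve.IsSeparated (J.over S) (ShfCat.relPsh φ) → Presieve.IsSeparated J F := by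
    intro h X R hR
    intro x t₁ t₂ h₁ h₂
    have e : φ.app (op X) t₁ = φ.app (op X) t₂ := by
      refine (hS.isSeparated R hR).ext fun A g hg => ?_
      show g ≫ _ = g ≫ _
      rw [← hnat, ← hnat, h₁ g hg, h₂ g hg]
    let T : Over S := Over.mk (φ.app (op X) t₁)
    have := (h _ (hmem T R hR)).ext (t₁ := (⟨t₁, rfl⟩ : ShfCat.RelSections φ T)) (t₂ := ⟨t₂, e.symm⟩)
      fun A g hg => by
        apply Subtype.ext
        rw [ShfCat.relPsh_map_val, ShfCat.relPsh_map_val]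
        exact (h₁ g.left hg).trans (h₂ g.left hg).symm
    exact congrArg Subtype.val this
  refine ⟨⟨sep2, sep1⟩, ⟨fun h X R hR => ?_, fun h T R hR => ?_⟩⟩
  · refine (Presieve.isSeparatedFor_and_exists_isAmalgamation_iff_isSheafFor).1
      ⟨sep2 h.isSeparated R hR, fun x hx => ?_⟩
    have hy : Presieve.FamilyOfElements.Compatible
        (fun A g hg => φ.app (op A) (x g hg) : Presieve.FamilyOfElements (yoneda.obj S) R.arrows) :=
      fun A₁ A₂ Z g₁ g₂ f₁ f₂ h₁ h₂ he => by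
        show g₁ ≫ φ.app _ (x f₁ h₁) = g₂ ≫ φ.app _ (x f₂ h₂)
        rw [← hnat, ← hnat, hx g₁ g₂ h₁ h₂ he]
    obtain ⟨a, ha, -⟩ := hS R hR _ hy
    let T : Over S := Over.mk (show X ⟶ S from a)
    have hz : ∀ (A : Over S) (g : A ⟶ T) (hg : R g.left),
        φ.app (op A.left) (x g.left hg) = A.hom := fun A g hg => by
      exact (ha g.left hg).symm.trans (Over.w g)
    let z : Presieve.FamilyOfElements (ShfCat.relPsh φ) ((Sieve.overEquiv T).symm R).arrows :=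
      fun A g hg => (⟨x g.left hg, hz A g hg⟩ : ShfCat.RelSections φ A)
    have hzc : z.Compatible :=
      fun A₁ A₂ Z g₁ g₂ f₁ f₂ h₁ h₂ he => by
        apply Subtype.ext
        rw [ShfCat.relPsh_map_val, ShfCat.relPsh_map_val]
        exact hx g₁.left g₂.left h₁ h₂ (congrArg CommaMorphism.left he)
    obtain ⟨t, ht, -⟩ := h _ (hmem T R hR) _ hzc
    refine ⟨t.1, fun A g hg => ?_⟩
    exact congrArg Subtype.val (ht (Over.homMk g : Over.mk (g ≫ T.hom) ⟶ T) hg)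
  · have hR' : Sieve.overEquiv T R ∈ J T.left := (GrothendieckTopology.mem_over_iff ..).1 hR
    refine (Presieve.isSeparatedFor_and_exists_isAmalgamation_iff_isSheafFor).1
      ⟨sep1 h.isSeparated R hR, fun x hx => ?_⟩
    have hg' : ∀ {A : C} (g : A ⟶ T.left), Sieve.overEquiv T R g →
        R (Over.homMk g : Over.mk (g ≫ T.hom) ⟶ T) := fun g hg => by
      rw [← (Sieve.overEquiv T).symm_apply_apply R]
      exact hg
    have hy : Presieve.FamilyOfElements.Compatible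
        (fun A g hg => (x _ (hg' g hg)).1 : Presieve.FamilyOfElements F (Sieve.overEquiv T R).arrows) :=
      fun A₁ A₂ Z g₁ g₂ f₁ f₂ h₁ h₂ he => by
        have := congrArg Subtype.val (hx
          (Over.homMk g₁ : Over.mk (g₁ ≫ f₁ ≫ T.hom) ⟶ Over.mk (f₁ ≫ T.hom))
          (Over.homMk g₂ (by simp [reassoc_of% he]) : Over.mk (g₁ ≫ f₁ ≫ T.hom) ⟶ Over.mk (f₂ ≫ T.hom))
          (hg' f₁ h₁) (hg' f₂ h₂) (Over.OverMorphism.ext he))
        rw [ShfCat.relPsh_map_val, ShfCat.relPsh_map_val] at this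
        exact this
    obtain ⟨t, ht, -⟩ := h _ hR' _ hy
    have e : φ.app (op T.left) t = T.hom := by
      refine (hS.isSeparated _ hR').ext fun A g hg => ?_
      show g ≫ _ = g ≫ _
      rw [← hnat, ht g hg]
      exact (x _ (hg' g hg)).2
    refine ⟨⟨t, e⟩, fun A g hg => ?_⟩
    apply Subtype.ext
    rw [ShfCat.relPsh_map_val]
    have h1 : Sieve.overEquiv T R g.left := by
      have := (Sieve.overEquiv T).symm_apply_apply R
      rw [← this] at hg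
      exact hg
    refine (ht g.left h1).trans ?_
    have := congrArg Subtype.val (hx
      (Over.homMk (𝟙 A.left) (by simp [Over.w g]) : Over.mk (g.left ≫ T.hom) ⟶ Over.mk (g.left ≫ T.hom))
      (Over.homMk (𝟙 A.left) (by simp [Over.w g]) : Over.mk (g.left ≫ T.hom) ⟶ A)
      (hg' g.left h1) hg (Over.OverMorphism.ext (by simp)))
    rw [ShfCat.relPsh_map_val, ShfCat.relPsh_map_val] at this
    simpa using this

end GenTopo
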